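import Cfsg.Agent.Lib.Alt4.R1
import Cfsg.Agent.Lib.ExtraTwo.Basic

/-! Standard subgroups `A` with outer automorphism group of order at most two whose centraliser has
non-cyclic Sylow 2-subgroups: an inner involution in a conjugate of the centraliser, and the
exclusion of generalised quaternion Sylow 2-subgroups. -/

set_option autoImplicit false
set_option linter.unusedSectionVars false

namespace CfsgLib.StdQ

open Subgroup Cfsg CfsgLib.Tech CfsgLib.StdR2 CfsgLib.ExtraTwo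
open scoped commutatorElement

variable {G : Type*} [Group G] [Finite G] {A : Subgroup G}

/-- the centraliser of `A` -/
abbrev KK (A : Subgroup G) : Subgroup G := centralizer (A : Set G)
/-- the normaliser of the centraliser of `A` -/
abbrev HH (A : Subgroup G) : Subgroup G := normalizer (KK A : Set G)

theorem comm_KA {k a : G} (hk : k ∈ KK A) (ha : a ∈ A) : Commute k a :=
  (mem_centralizer_iff.1 hk a ha).symm

theorem mem_KA {g : G} : g ∈ KK A ⊔ A ↔ ∃ k ∈ KK A, ∃ a ∈ A, g = k * a := by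
  have hn : KK A ≤ normalizer (A : Set G) := centralizer_le_normalizer _
  rw [← SetLike.mem_coe, coe_mul_of_left_le_normalizer_right _ _ hn]
  exact ⟨fun ⟨k, hk, a, ha, e⟩ => ⟨k, hk, a, ha, e.symm⟩, fun ⟨k, hk, a, ha, e⟩ => ⟨k, hk, a, ha, e.symm⟩⟩

theorem KK_cj (g : G) : KK (cj g A) = cj g (KK A) := (cj_centralizer g A).symm

theorem cyc_of_le {R : Subgroup G} {x : G} (h : ∀ y ∈ R, y ∈ zpowers x) : IsCyclic R :=
  isCyclic_of_le (H' := zpowers x) h

/-- the hypotheses -/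
structure QS (A : Subgroup G) : Prop where
  ti : IsTightlyEmbedded (KK A)
  norm : normalizer (A : Set G) = HH A
  disj : ∀ a ∈ KK A, a ∈ A → a = 1
  two : ∀ a ∈ HH A, ∀ b ∈ HH A, a ∈ KK A ⊔ A ∨ b ∈ KK A ⊔ A ∨ a * b ∈ KK A ⊔ A
  outer : ∀ t ∈ HH A, t * t = 1 → t ∉ KK A ⊔ A →
    ∃ a ∈ A, ∃ b ∈ A, b * b = 1 ∧ b ≠ 1 ∧ b * t = a * t * a⁻¹
  nn : ¬ (KK A).Normal
  inv : ∃ z ∈ A, orderOf z = 2 ∧ z ∈ normalClosure (KK A : Set G)
  ncyc : ∀ R, IsSylowIn 2 R (KK A) → ¬ IsCyclic R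

namespace QS

variable (h : QS A)
include h

theorem A_le_H : A ≤ HH A := h.norm ▸ le_normalizer

theorem KA_le_H : KK A ⊔ A ≤ HH A := sup_le le_normalizer h.A_le_H

theorem eq_one {g y : G} (hg : g ∉ HH A) (h1 : y ∈ KK A) (h2 : y ∈ cj g (KK A)) (y2 : y * y = 1) :
    y = 1 := eq_one_of_two h.ti hg h1 h2 (j := 1) (by rw [pow_one, pow_two, y2])

theorem ncyc' {g : G} {R : Subgroup G} (hR : IsSylowIn 2 R (cj g (KK A))) : ¬ IsCyclic R :=
  fun e => h.ncyc _ (by simpa only [cj_inv_cj] using hR.cj g⁻¹)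
    ((cjEquiv g⁻¹ R).isCyclic.1 e)

/-- the two parts of an element of order at most 2 of `K × A` -/
theorem exists_k {t : G} (t2 : t * t = 1) (hi : t ∈ KK A ⊔ A) :
    ∃ k ∈ KK A, ∃ a ∈ A, k * k = 1 ∧ a * a = 1 ∧ t = k * a := by
  obtain ⟨k, hk, a, ha, rfl⟩ := mem_KA.1 hi
  rw [← pow_two, (comm_KA hk ha).mul_pow, pow_two, pow_two, mul_eq_one_iff_eq_inv] at t2
  have := h.disj _ (mul_mem hk hk) (t2 ▸ inv_mem (mul_mem ha ha))
  exact ⟨k, hk, a, ha, this, inv_eq_one.1 (t2 ▸ this), rfl⟩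

omit h in
theorem k_mem {R : Subgroup G} (hR : IsSylowIn 2 R (KK A)) {a k : G} (hk : k ∈ KK A) (ha : a ∈ A)
    (k2 : k * k = 1) (hn : k * a ∈ normalizer (R : Set G)) : k ∈ R :=
  hR.le_of_normalizes (isPGroup_two_zpowers k2) (zpowers_le.2 hk) (zpowers_le.2 (by
    have : a ∈ normalizer (R : Set G) := centralizer_le_normalizer _
      (mem_centralizer_iff.2 fun r hr => (comm_KA (hR.le hr) ha).eq)
    exact (mul_mem_cancel_right this).1 hn)) (mem_zpowers k)

omit h in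
theorem comm_iff {a k r : G} (hr : r ∈ KK A) (ha : a ∈ A) :
    r * (k * a) = k * a * r ↔ r * k = k * r := by
  rw [mul_assoc, ← (comm_KA hr ha).eq, ← mul_assoc, ← mul_assoc, mul_left_inj]

theorem exists_inner : ∃ g, g ∉ HH A ∧ ∃ t ∈ cj g (KK A), orderOf t = 2 ∧ t ∈ KK A ⊔ A := by
  by_contra hni
  have inn : ∀ {c k b : G}, k ∈ KK A → b ∈ A → k * b ∈ cj c (KK A) → k * b * (k * b) = 1 →
      b = 1 := fun {c k b} hk hb hd d2 => by_contra fun b1 => by
    have hK : k * b ∉ KK A := fun e => b1 (h.disj _ ((mul_mem_cancel_left hk).1 e) hb)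
    exact hni ⟨c, fun hc => hK (mem_normalizer_iff_cj.1 hc ▸ hd), _, hd,
      orderOf_eq_two (fun e => hK (e ▸ one_mem _)) d2, mul_mem_sup hk hb⟩
  have hne : ¬ ∃ g, g ∉ HH A ∧ ∃ t ∈ cj g (KK A), ∃ y ∈ cj g (KK A),
      t ∈ HH A ∧ y ∈ HH A ∧ orderOf t = 2 ∧ orderOf y = 2 ∧ y ≠ t ∧ Commute y t := by
    rintro ⟨g, hg, t, ht, y, hy, tH, yH, ot, oy, ne, c⟩
    rcases h.two _ yH _ tH with e | e | e
    · exact hni ⟨g, hg, y, hy, oy, e⟩
    · exact hni ⟨g, hg, t, ht, ot, e⟩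
    · refine hni ⟨g, hg, _, mul_mem hy ht, orderOf_eq_two (fun e1 => ne ?_) (by
        rw [← pow_two, c.mul_pow, pow_two, pow_two, mul_self_of_orderOf oy, mul_self_of_orderOf ot, one_mul]), e⟩
      rw [eq_inv_of_mul_eq_one_left e1, inv_eq_of_mul_eq_one_right (mul_self_of_orderOf ot)]
  obtain ⟨z, zA, oz, zn⟩ := h.inv
  obtain ⟨g, hg, t, o, ht, htH⟩ := exists_conj_inv h.ti h.nn oz (h.A_le_H zA) zn
    fun e => ne_one_of_orderOf oz (h.disj _ e zA)
  have t2 := mul_self_of_orderOf o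
  have t1 := ne_one_of_orderOf o
  have ni : t ∉ KK A ⊔ A := fun e => hni ⟨g, hg, t, ht, o, e⟩
  have two : ∀ Q : Subgroup G, IsPGroup 2 Q → Q ≤ cj g (KK A) ⊓ HH A → t ∈ Q →
      ∀ x ∈ Q, x = 1 ∨ x = t := fun Q hQ hle m x hx => by
    have h1 := Alt4.eq_of_no_four hQ m o fun y hy o' c => by_contra fun ne =>
      hne ⟨g, hg, t, ht, y, (hle hy).1, htH, (hle hy).2, o, o', ne, c⟩
    obtain ⟨k, hk⟩ := isPGroup_iff_mem.1 hQ x hx
    induction k generalizing x with
    | zero => exact .inl (by simpa using hk)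
    | succ k ih =>
      rcases ih _ (mul_mem hx hx) (by rw [← pow_two, ← pow_mul, ← pow_succ', hk]) with e | e
      · exact or_iff_not_imp_left.2 fun x1 => h1 x hx (orderOf_eq_two x1 e)
      · rcases h.two _ (hle hx).2 _ (hle hx).2 with e1 | e1 | e1
        exacts [absurd (e ▸ mul_mem e1 e1) ni, absurd (e ▸ mul_mem e1 e1) ni, absurd (e ▸ e1) ni]
  obtain ⟨T, hT, hle⟩ := exists_isSylowIn_ge (H := cj g (KK A) ⊓ HH A) (isPGroup_two_zpowers t2)
    (zpowers_le.2 ⟨ht, htH⟩)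
  have m := hle (mem_zpowers t)
  obtain ⟨R, R0, hR, -, -, h0, ⟨e⟩, hc, -⟩ := Alt4.exists_R0_iso h.ti hg hT
    (fun e => t1 (mem_bot.1 (e ▸ m))) IsPGroup.of_bot bot_le (by rw [normalizer_eq_top]; exact le_top)
  obtain ⟨r, rK, ro, rt⟩ : ∃ r ∈ KK A, orderOf r = 2 ∧ Commute t r :=
    ⟨_, hR.le (h0 (e.symm ⟨t, m⟩).2), by rw [orderOf_coe, e.symm.orderOf_eq, orderOf_mk, o],
      (hc _ (e.symm ⟨t, m⟩).2 t m).symm⟩
  have r2 := mul_self_of_orderOf ro
  obtain ⟨a, ha, b, bA, u2, b1, eb⟩ := h.outer t htH t2 ni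
  have ut : Commute b t := by
    have : b * t * (b * t) = 1 := by rw [eb, conj_mul, t2]; simp
    rw [Commute, SemiconjBy, ← inv_eq_of_mul_eq_one_right this, mul_inv_rev,
      inv_eq_of_mul_eq_one_right t2, inv_eq_of_mul_eq_one_right u2]
  have ur := (comm_KA rK bA).symm
  have q2 := Alt4.two_four t2 r2 rt
  have mq := @Alt4.mem_four _ _ _ _ _ t2 r2 rt
  have uq : b ∈ centralizer (closure ({t, r} : Set G) : Set G) := by
    rw [centralizer_closure]
    rintro _ (rfl | rfl)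
    exacts [ut.symm.eq, ur.symm.eq]
  have nK : ∀ x, Commute x t → x ∈ normalizer (cj g (KK A) : Set G) := fun x hx =>
    mem_norm_cj h.ti ht o hx
  obtain ⟨R', hR', n', le'⟩ := Alt4.exists_syl_norm (K := cj g (KK A))
    (q2.to_sup_of_normal_left' (isPGroup_two_zpowers u2)
      (zpowers_le.2 (centralizer_le_normalizer _ uq)))
    (sup_le ((closure_le _).2 (by
      rintro _ (rfl | rfl)
      exacts [nK _ (Commute.refl _), nK _ rt.symm])) (zpowers_le.2 (nK _ ut)))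
  have tR : t ∈ R' := le' ⟨mem_sup_left (mq.2 (by simp)), ht⟩
  have cr : ∀ x ∈ R', x * r = r * x → x = 1 ∨ x = t := fun x hx c =>
    two (R' ⊓ centralizer {r}) hR'.pgroup.to_inf_left (fun y hy => ⟨hR'.le hy.1,
      mem_norm_of_comm h.ti rK ro (mem_centralizer_singleton_iff.1 hy.2)⟩)
      ⟨tR, mem_centralizer_singleton_iff.2 rt⟩ x ⟨hx, mem_centralizer_singleton_iff.2 c⟩
  have cq : ∀ x ∈ R', x ∈ closure ({t, r} : Set G) → x = 1 ∨ x = t := fun x hx hq => cr x hx (by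
    rcases mq.1 hq with rfl | rfl | rfl | rfl
    exacts [by simp, rt, rfl, (rt.mul_left (Commute.refl r)).eq])
  obtain ⟨y, hy, hy', yn⟩ := exists_mem_normalizer_of_lt (Q := closure ({t, r} : Set G))
    (hR'.pgroup.to_sup_of_normal_left' q2 (le_sup_left.trans n')) (lt_of_le_of_ne le_sup_right
      fun e => h.ncyc' hR' (cyc_of_le (x := t) fun v hv => by
        rcases cq v hv (e.ge (mem_sup_left hv)) with rfl | rfl
        exacts [one_mem _, mem_zpowers _]))
  obtain ⟨x, hx, q, hq, rfl⟩ :=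
    (LAE.mem_sup_iff_of_right_le_normalizer (le_sup_left.trans n')).1 hy
  replace yn := (mul_mem_cancel_right (le_normalizer hq)).1 yn
  replace hy' : x ∉ closure ({t, r} : Set G) := fun e => hy' (mul_mem e hq)
  have xt : x * t * x⁻¹ = t := (cq _ (mul_mem (mul_mem hx tR) (inv_mem hx))
    (conj_mem_of_mem_normalizer yn (mq.2 (by simp)))).resolve_left (by simpa using t1)
  have xr : x * r * x⁻¹ = t * r := by
    rcases mq.1 (conj_mem_of_mem_normalizer yn (mq.2 (.inr (.inr (.inl rfl))))) with e | e | e | e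
    · exact absurd (by simpa using e) (ne_one_of_orderOf ro)
    · rw [← xt, mul_left_inj, mul_right_inj] at e
      exact absurd (h.eq_one hg (e ▸ rK) ht t2) t1
    · rcases cr x hx (mul_inv_eq_iff_eq_mul.1 e) with rfl | rfl
      exacts [absurd (one_mem _) hy', absurd (mq.2 (by simp)) hy']
    · exact e
  have hx' := conj_mem_of_mem_normalizer (n' (mem_sup_right (mem_zpowers _))) hx
  have xr' : b * x * b⁻¹ * r = t * r * (b * x * b⁻¹) := by
    calc _ = b * (x * r * x⁻¹) * x * b⁻¹ := by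
          rw [mul_assoc _ _ r, ur.inv_left.eq]; group
      _ = _ := by rw [xr, (ut.mul_right ur).eq]; group
  rcases cr _ (mul_mem (inv_mem hx) hx') (by rw [mul_assoc, xr', ← xr]; group) with e | e
  · refine b1 (inn (c := x⁻¹ * a * x) rK bA ?_ (by
      rw [← pow_two, ur.symm.mul_pow, pow_two, pow_two, r2, u2, one_mul]))
    have e1 : x * b * x⁻¹ = b := by
      rw [inv_mul_eq_one, eq_mul_inv_iff_mul_eq] at e; rw [e, mul_inv_cancel_right]
    have e2 : r * b = x⁻¹ * a * x * r * (x⁻¹ * a * x)⁻¹ := by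
      calc r * b = x⁻¹ * (x * r * x⁻¹ * (x * b * x⁻¹)) * x := by group
        _ = x⁻¹ * (b * t * r) * x := by rw [xr, e1, ← (ut.mul_right ur).eq, mul_assoc b]
        _ = x⁻¹ * (a * (t * r) * a⁻¹) * x := by
          rw [eb, mul_assoc _ _ r, ← (comm_KA rK ha).inv_right.eq]; group
        _ = _ := by rw [← xr]; group
    rw [e2]
    exact conj_mem_cj.2 rK
  · refine b1 (inn (c := x * a * g) (one_mem _) bA ?_ (by rw [one_mul, u2]))
    have e2 : b = x * a * t * (x * a)⁻¹ := by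
      calc b = x * (x⁻¹ * (b * x * b⁻¹) * b) * x⁻¹ := by group
        _ = _ := by rw [e, ← ut.eq, eb]; group
    rw [one_mul, e2, cj_mul]
    exact conj_mem_cj.2 ht

/-- commutators of the normaliser are inner -/
theorem comm_mem {a b : G} (ha : a ∈ HH A) (hb : b ∈ HH A) : ⁅a, b⁆ ∈ KK A ⊔ A := by
  have nn : ∀ c ∈ HH A, ∀ x ∈ KK A ⊔ A, c * x * c⁻¹ ∈ KK A ⊔ A := fun c hc x hx => by
    obtain ⟨k, hk, a, ha, rfl⟩ := mem_KA.1 hx
    rw [← conj_mul]
    exact mul_mem_sup (conj_mem_of_mem_normalizer hc hk) (conj_mem_of_mem_normalizer (h.norm ▸ hc) ha)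
  rw [commutatorElement_def]
  rcases h.two _ ha _ hb with e | e | e
  · simpa only [mul_assoc, inv_inv] using mul_mem e (nn _ hb _ (inv_mem e))
  · exact mul_mem (nn _ ha _ e) (inv_mem e)
  · simpa only [mul_assoc, mul_inv_rev, inv_inv, inv_mul_cancel, mul_one] using
      mul_mem e (nn _ (inv_mem ha) _ (inv_mem e))

theorem commutator_le_cj {g : G} {C : Subgroup G} (hC : C ≤ cj g (HH A)) :
    ⁅C, C⁆ ≤ cj g (KK A) ⊔ cj g A := by
  rw [← cj_sup, commutator_le]
  intro a ha b hb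
  have := h.comm_mem (mem_cj.1 (hC ha)) (mem_cj.1 (hC hb))
  rw [mem_cj]
  simpa only [commutatorElement_def, mul_assoc, mul_inv_rev, inv_inv, mul_inv_cancel_left] using this

/-- the case of a centraliser of 2-rank one: an element of order four of `A` that is centralised by
the involutions of the derived group of the centraliser of its square -/
theorem exists_four (hu : ∀ v ∈ KK A, ∀ w ∈ KK A, orderOf v = 2 → orderOf w = 2 → Commute v w → v = w) :
    ∃ l ∈ A, orderOf (l * l) = 2 ∧ ∀ Λ ≤ A, (∀ c ∈ Λ, Commute c (l * l)) → ∀ c ∈ ⁅Λ, Λ⁆,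
      c * c = 1 → Commute c l := by
  obtain ⟨g, hg, t, ht, o, hi⟩ := h.exists_inner
  have t2 := mul_self_of_orderOf o
  have t1 := ne_one_of_orderOf o
  have hu' : ∀ v ∈ cj g (KK A), v * v = 1 → Commute v t → v = 1 ∨ v = t := fun v hv v2 c =>
    or_iff_not_imp_left.2 fun v1 => by
      have := hu _ (mem_cj.1 hv) _ (mem_cj.1 ht)
        (by simpa using (orderOf_conj_eq g⁻¹ v).trans (orderOf_eq_two v1 v2))
        (by simpa using (orderOf_conj_eq g⁻¹ t).trans o)
        (by simpa using c.map (MulAut.conj g⁻¹).toMonoidHom)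
      simpa using this
  obtain ⟨T, hT, hle⟩ := exists_isSylowIn_ge (H := cj g (KK A) ⊓ HH A) (isPGroup_two_zpowers t2)
    (zpowers_le.2 ⟨ht, h.KA_le_H hi⟩)
  have m := hle (mem_zpowers t)
  have h1 := Alt4.eq_of_no_four hT.pgroup m o fun y hy o' c =>
    (hu' y (hT.le hy).1 (mul_self_of_orderOf o') c).resolve_left (ne_one_of_orderOf o')
  obtain ⟨R, R0, hR, -, hn, h0, ⟨e⟩, -, hc⟩ := Alt4.exists_R0_iso h.ti hg hT
    (fun e => t1 (mem_bot.1 (e ▸ m))) IsPGroup.of_bot bot_le (by rw [normalizer_eq_top]; exact le_top)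
  obtain ⟨k, hk, a, ha, k2, a2, rfl⟩ := h.exists_k t2 hi
  have kR := k_mem hR hk ha k2 (hn m)
  have h4 : ∀ r ∈ R, r * k = k * r := fun r hr => by
    by_cases k1 : k = 1
    · rw [k1, mul_one, one_mul]
    obtain ⟨z, hz, z2, zc⟩ := exists_mem_center_of_normalized hR.pgroup le_rfl le_normalizer
      fun e => k1 (mem_bot.1 (e ▸ kR))
    rw [hu k hk z (hR.le hz) (orderOf_eq_two k1 k2) z2 (zc k kR)]
    exact zc r hr
  obtain rfl : R0 = R := le_antisymm h0 fun r hr =>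
    hc _ m o r hr ((comm_iff (hR.le hr) ha).2 (h4 r hr))
  have nT : ¬ IsCyclic T := fun c => h.ncyc _ hR (e.isCyclic.2 c)
  obtain ⟨y, hy, yi, y2⟩ : ∃ y ∈ T, y ∈ KK A ⊔ A ∧ y * y = k * a := by
    by_contra! hno
    have two : ∀ x ∈ T, x ∈ KK A ⊔ A → x = 1 ∨ x = k * a := fun x hx xi => by
      obtain ⟨j, hj⟩ := isPGroup_iff_mem.1 hT.pgroup x hx
      induction j generalizing x with
      | zero => exact .inl (by simpa using hj)
      | succ j ih =>
        rcases ih _ (mul_mem hx hx) (mul_mem xi xi) (by rw [← pow_two, ← pow_mul, ← pow_succ', hj])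
          with e | e
        · exact or_iff_not_imp_left.2 fun x1 => h1 x hx (orderOf_eq_two x1 e)
        · exact absurd e (hno x hx xi)
    by_cases hall : ∀ x ∈ T, x ∈ KK A ⊔ A
    · refine nT (cyc_of_le (x := k * a) fun v hv => ?_)
      rcases two v hv (hall v hv) with rfl | rfl
      exacts [one_mem _, mem_zpowers _]
    push Not at hall
    obtain ⟨x, hx, xi⟩ := hall
    have xx : x * x = k * a := by
      rcases h.two _ (hT.le hx).2 _ (hT.le hx).2 with e | e | e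
      exacts [absurd e xi, absurd e xi, (two _ (mul_mem hx hx) e).resolve_left fun e1 =>
        xi (h1 x hx (orderOf_eq_two (fun e2 => xi (e2 ▸ one_mem _)) e1) ▸ hi)]
    have sub : ∀ v ∈ T, v ∈ KK A ⊔ A → v ∈ zpowers x := fun v hv vi => by
      rcases two v hv vi with rfl | rfl
      exacts [one_mem _, xx ▸ mul_mem (mem_zpowers _) (mem_zpowers _)]
    refine nT (cyc_of_le (x := x) fun v hv => ?_)
    rcases h.two _ (hT.le hx).2 _ (hT.le hv).2 with e | e | e
    exacts [absurd e xi, sub v hv e, (mul_mem_cancel_left (mem_zpowers x)).1 (sub _ (mul_mem hx hv) e)]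
  obtain ⟨k', hk', l, hl, rfl⟩ := mem_KA.1 yi
  have y2' : k' * k' * (l * l) = k * a := by
    rw [← y2, ← pow_two, ← pow_two, ← pow_two, (comm_KA hk' hl).mul_pow]
  have la : l * l = a := by
    have e1 : k⁻¹ * (k' * k') = a * (l * l)⁻¹ := by
      rw [inv_mul_eq_iff_eq_mul, ← mul_assoc, ← y2', mul_inv_cancel_right]
    have := h.disj _ (mul_mem (inv_mem hk) (mul_mem hk' hk'))
      (e1 ▸ mul_mem ha (inv_mem (mul_mem hl hl)))
    exact (mul_inv_eq_one.1 (e1 ▸ this)).symm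
  have a1 : a ≠ 1 := fun e => t1 (h.eq_one hg (by rw [e, mul_one]; exact hk) ht t2)
  refine ⟨l, hl, la ▸ orderOf_eq_two a1 a2, fun Λ ΛA Λc c hc c2 => ?_⟩
  rw [la] at Λc
  have ct : ∀ c ∈ Λ, Commute c (k * a) := fun c hc => (comm_KA hk (ΛA hc)).symm.mul_right (Λc c hc)
  have cΛ : c ∈ Λ := (commutator_le.2 fun a ha b hb =>
    mul_mem (mul_mem (mul_mem ha hb) (inv_mem ha)) (inv_mem hb) : ⁅Λ, Λ⁆ ≤ Λ) hc
  have ci := h.commutator_le_cj (g := g) (fun c hc => by
    rw [cj_normalizer]; exact mem_norm_cj h.ti ht o (ct c hc)) hc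
  rw [← KK_cj] at ci ht
  obtain ⟨p, hp, q, hq, e⟩ := mem_KA.1 ci
  have hy' : k' * l ∈ KK (cj g A) := KK_cj (A := A) g ▸ (hT.le hy).1
  have p2 : p * p = 1 := by
    rw [e, ← pow_two, (comm_KA hp hq).mul_pow, pow_two, pow_two, mul_eq_one_iff_eq_inv] at c2
    have h5 : p * p ∈ cj g A := c2 ▸ inv_mem (mul_mem hq hq)
    have h6 : p * p ∈ cj g (KK A) := KK_cj (A := A) g ▸ mul_mem hp hp
    have h7 := h.disj _ (mem_cj.1 h6) (mem_cj.1 h5)
    rwa [mul_assoc, inv_mul_eq_one, eq_comm, mul_eq_right] at h7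
  have pt : Commute p (k * a) := by
    have h7 := ((e ▸ ct c cΛ : Commute (p * q) (k * a))).mul_left (comm_KA ht hq).symm.inv_left
    simpa only [mul_inv_cancel_right] using h7
  have py : Commute p (k' * l) := by
    rcases hu' p (KK_cj (A := A) g ▸ hp) p2 pt with rfl | e1
    · exact Commute.one_left _
    · rw [e1, ← y2]; exact (Commute.refl _).mul_left (Commute.refl _)
  have cy : Commute c (k' * l) := e ▸ py.mul_left (comm_KA hy' hq).symm
  simpa only [inv_mul_cancel_left] using (comm_KA hk' (ΛA cΛ)).symm.inv_right.mul_right cy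

end QS

end CfsgLib.StdQ
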