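import Cfsg.Agent.Lib.StdQ.Gen
import Cfsg.Agent.Lib.ZStar.Main

/-! Standard simple subgroups whose centraliser has generalised quaternion Sylow 2-subgroups. -/

set_option autoImplicit false
set_option linter.unusedSectionVars false

namespace CfsgLib.StdQ

open Subgroup Cfsg CfsgLib.Tech CfsgLib.StdR2 CfsgLib.ExtraTwo
open scoped commutatorElement

variable {G : Type*} [Group G] [Finite G] {A : Subgroup G}

/-- the automorphisms induced by the normaliser -/
theorem exists_aut {X : Type*} [Group X] {ι : X →* G} (hi : Function.Injective ι) :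
    ∃ φ : normalizer (ι.range : Set G) →* MulAut X, ∀ a g, ι (φ a g) = a * ι g * (a : G)⁻¹ := by
  let e : X ≃* ι.range := MonoidHom.ofInjective hi
  refine ⟨(MulAut.congr e).symm.toMonoidHom.comp ι.range.normalizerMonoidHom, fun a g => ?_⟩
  have h1 : ∀ y : ι.range, ι (e.symm y) = y := fun y => by
    obtain ⟨y, rfl⟩ := e.surjective y
    rw [e.symm_apply_apply]; rfl
  exact (h1 (ι.range.normalizerMonoidHom a (e g))).trans rfl

theorem mem_of_inn {X : Type*} [Group X] {ι : X →* G} {φ : normalizer (ι.range : Set G) →* MulAut X}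
    (hφ : ∀ a g, ι (φ a g) = a * ι g * (a : G)⁻¹) {a : normalizer (ι.range : Set G)} {y : X}
    (e : MulAut.conj y = φ a) : (a : G) * (ι y)⁻¹ ∈ KK ι.range := by
  rintro _ ⟨g, rfl⟩
  have h1 := hφ a (y⁻¹ * g * y)
  rw [← e, MulAut.conj_apply, show y * (y⁻¹ * g * y) * y⁻¹ = g by group, map_mul, map_mul,
    map_inv] at h1
  symm
  calc a * (ι y)⁻¹ * ι g = a * ((ι y)⁻¹ * ι g * ι y) * (a : G)⁻¹ * (a * (ι y)⁻¹) := by group
    _ = _ := by rw [← h1]

/-- an involution acting non-trivially on a simple group of even order is not isolated -/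
theorem exists_comm_conj (hs : IsSimpleGroup A) {z : G} (hz : z ∈ A) (oz : orderOf z = 2) {t : G}
    (ht : t ∈ normalizer (A : Set G)) (t2 : t * t = 1) (hn : t ∉ KK A ⊔ A) :
    ∃ a ∈ A, ∃ b ∈ A, b * b = 1 ∧ b ≠ 1 ∧ b * t = a * t * a⁻¹ := by
  have ti : t⁻¹ = t := inv_eq_of_mul_eq_one_right t2
  have cm : ∀ a ∈ A, a * t * a⁻¹ * t ∈ A := fun a ha => by
    simpa only [mul_assoc, ti] using mul_mem ha (conj_mem_of_mem_normalizer ht (inv_mem ha))
  by_contra! hno
  let M : Subgroup G := A ⊔ zpowers t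
  have tM : t ∈ M := mem_sup_right (mem_zpowers t)
  have nM : M ≤ normalizer (A : Set G) := sup_le le_normalizer (zpowers_le.2 ht)
  have iso : IsIsolatedInvolution (⟨t, tM⟩ : M) := by
    refine ⟨by rw [← orderOf_coe]; exact orderOf_eq_two (fun e : t = 1 => hn (e ▸ one_mem _)) t2, fun g c => ?_⟩
    obtain ⟨a, ha, q, hq, e⟩ := (LAE.mem_sup_iff_of_right_le_normalizer (zpowers_le.2 ht)).1 g.2
    obtain ⟨i, rfl⟩ := mem_zpowers_iff.1 hq
    have e1 : (g : G) * t * (g : G)⁻¹ = a * t * a⁻¹ := by rw [e]; group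
    have c' : Commute t (a * t * a⁻¹) := e1 ▸ (congrArg Subtype.val c.eq : _)
    refine Subtype.ext (e1.trans (by_contra fun ne => hno a ha _ (cm a ha) ?_ (fun e => ne ?_) ?_))
    · rw [← pow_two, c'.symm.mul_pow, pow_two, pow_two, conj_mul, t2]; simp
    · rw [eq_inv_of_mul_eq_one_left e, ti]
    · rw [mul_assoc _ t t, t2, mul_one]
  refine hn (mem_sup_left (mem_centralizer_iff.2 fun a ha => ?_))
  have h1 := ZStar.zstar iso ⟨a, mem_sup_left ha⟩
  have hO : ((pPrimeCore 2 M).map M.subtype).subgroupOf A = ⊥ := by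
    refine (hs.eq_bot_or_eq_top_of_normal _ ⟨fun b hb c => ?_⟩).resolve_right fun e => ?_
    · exact conj_mem_of_mem_normalizer (G := G) (Core.normalizer_le_normalizer_map_pPrimeCore M
        (le_normalizer (mem_sup_left c.2))) hb
    · have := (Core.coprime_card_map_pPrimeCore (p := 2) M).coprime_dvd_left
        (oz ▸ orderOf_dvd_natCard _ (subgroupOf_eq_top.1 e hz))
      exact absurd this (by decide)
  have h2 : (⟨t * a * t⁻¹ * a⁻¹, mul_mem (conj_mem_of_mem_normalizer ht ha) (inv_mem ha)⟩ : A) ∈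
      ((pPrimeCore 2 M).map M.subtype).subgroupOf A := ⟨_, h1, rfl⟩
  rw [hO, mem_bot, Subtype.ext_iff] at h2
  exact (mul_inv_eq_iff_eq_mul.1 (mul_inv_eq_one.1 h2)).symm

/-- the hypotheses -/
structure Q1 (A : Subgroup G) : Prop where
  ti : IsTightlyEmbedded (KK A)
  norm : normalizer (A : Set G) = HH A
  simple : IsSimpleGroup A
  disj : ∀ a ∈ KK A, a ∈ A → a = 1
  sq : ∀ x ∈ HH A, x * x * (x * x) = 1 → x * x ∈ KK A ⊔ A
  nn : ¬ (KK A).Normal
  inv : ∃ z ∈ A, orderOf z = 2 ∧ z ∈ normalClosure (KK A : Set G)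
  ncyc : ∀ R, IsSylowIn 2 R (KK A) → ¬ IsCyclic R
  uniq : ∀ v ∈ KK A, ∀ w ∈ KK A, orderOf v = 2 → orderOf w = 2 → Commute v w → v = w

namespace Q1

variable (h : Q1 A)
include h

theorem A_le_H : A ≤ HH A := h.norm ▸ le_normalizer

theorem KA_le_H : KK A ⊔ A ≤ HH A := sup_le le_normalizer h.A_le_H

theorem eq_one {g y : G} (hg : g ∉ HH A) (h1 : y ∈ KK A) (h2 : y ∈ cj g (KK A)) (y2 : y * y = 1) :
    y = 1 := eq_one_of_two h.ti hg h1 h2 (j := 1) (by rw [pow_one, pow_two, y2])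

theorem ncyc' {g : G} {R : Subgroup G} (hR : IsSylowIn 2 R (cj g (KK A))) : ¬ IsCyclic R :=
  fun e => h.ncyc _ (by simpa only [cj_inv_cj] using hR.cj g⁻¹)
    ((cjEquiv g⁻¹ R).isCyclic.1 e)

theorem uniq' {g t v : G} (ht : t ∈ cj g (KK A)) (o : orderOf t = 2) (hv : v ∈ cj g (KK A))
    (v2 : v * v = 1) (c : Commute v t) : v = 1 ∨ v = t :=
  or_iff_not_imp_left.2 fun v1 => by
    have := h.uniq _ (mem_cj.1 hv) _ (mem_cj.1 ht)
      (by simpa using (orderOf_conj_eq g⁻¹ v).trans (orderOf_eq_two v1 v2))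
      (by simpa using (orderOf_conj_eq g⁻¹ t).trans o)
      (by simpa using c.map (MulAut.conj g⁻¹).toMonoidHom)
    simpa using this

theorem outer {t : G} (ht : t ∈ HH A) (t2 : t * t = 1) (hn : t ∉ KK A ⊔ A) :
    ∃ a ∈ A, ∃ b ∈ A, b * b = 1 ∧ b ≠ 1 ∧ b * t = a * t * a⁻¹ := by
  obtain ⟨z, hz, oz, -⟩ := h.inv
  exact exists_comm_conj h.simple hz oz (h.norm ▸ ht) t2 hn

theorem exists_inner : ∃ g, g ∉ HH A ∧ ∃ t ∈ cj g (KK A), orderOf t = 2 ∧ t ∈ KK A ⊔ A := by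
  by_contra hni
  have inn : ∀ {c k b : G}, k ∈ KK A → b ∈ A → k * b ∈ cj c (KK A) → k * b * (k * b) = 1 →
      b = 1 := fun {c k b} hk hb hd d2 => by_contra fun b1 => by
    have hK : k * b ∉ KK A := fun e => b1 (h.disj _ ((mul_mem_cancel_left hk).1 e) hb)
    exact hni ⟨c, fun hc => hK (mem_normalizer_iff_cj.1 hc ▸ hd), _, hd,
      orderOf_eq_two (fun e => hK (e ▸ one_mem _)) d2, mul_mem_sup hk hb⟩
  obtain ⟨z, zA, oz, zn⟩ := h.inv
  obtain ⟨g, hg, t, o, ht, htH⟩ := exists_conj_inv h.ti h.nn oz (h.A_le_H zA) zn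
    fun e => ne_one_of_orderOf oz (h.disj _ e zA)
  have t2 := mul_self_of_orderOf o
  have t1 := ne_one_of_orderOf o
  have ni : t ∉ KK A ⊔ A := fun e => hni ⟨g, hg, t, ht, o, e⟩
  have two : ∀ Q : Subgroup G, IsPGroup 2 Q → Q ≤ cj g (KK A) ⊓ HH A → t ∈ Q →
      ∀ x ∈ Q, x = 1 ∨ x = t := fun Q hQ hle m x hx => by
    have h1 := Alt4.eq_of_no_four hQ m o fun y hy o' c =>
      (h.uniq' ht o (hle hy).1 (mul_self_of_orderOf o') c).resolve_left (ne_one_of_orderOf o')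
    obtain ⟨k, hk⟩ := isPGroup_iff_mem.1 hQ x hx
    induction k generalizing x with
    | zero => exact .inl (by simpa using hk)
    | succ k ih =>
      rcases ih _ (mul_mem hx hx) (by rw [← pow_two, ← pow_mul, ← pow_succ', hk]) with e | e
      · exact or_iff_not_imp_left.2 fun x1 => h1 x hx (orderOf_eq_two x1 e)
      · exact absurd (e ▸ h.sq x (hle hx).2 (by rw [e, t2])) ni
  obtain ⟨T, hT, hle⟩ := exists_isSylowIn_ge (H := cj g (KK A) ⊓ HH A) (isPGroup_two_zpowers t2)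
    (zpowers_le.2 ⟨ht, htH⟩)
  have m := hle (mem_zpowers t)
  obtain ⟨R, R0, hR, -, -, h0, ⟨e⟩, hc, -⟩ := Alt4.exists_R0_iso h.ti hg hT
    (fun e => t1 (mem_bot.1 (e ▸ m))) IsPGroup.of_bot bot_le (by rw [normalizer_eq_top]; exact le_top)
  obtain ⟨r, rK, ro, rt⟩ : ∃ r ∈ KK A, orderOf r = 2 ∧ Commute t r :=
    ⟨_, hR.le (h0 (e.symm ⟨t, m⟩).2), by rw [orderOf_coe, e.symm.orderOf_eq, orderOf_mk, o],
      (hc _ (e.symm ⟨t, m⟩).2 t m).symm⟩
  have r2 := mul_self_of_orderOf ro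
  obtain ⟨a, ha, b, bA, u2, b1, eb⟩ := h.outer htH t2 ni
  have ut : Commute b t := by
    have : b * t * (b * t) = 1 := by rw [eb, conj_mul, t2]; simp
    rw [Commute, SemiconjBy, ← inv_eq_of_mul_eq_one_right this, mul_inv_rev,
      inv_eq_of_mul_eq_one_right t2, inv_eq_of_mul_eq_one_right u2]
  have ur := (comm_KA rK bA).symm
  have q2 := Alt4.two_four t2 r2 rt
  have mq := @Alt4.mem_four _ _ _ _ _ t2 r2 rt
  have uq : b ∈ centralizer (closure ({t, r} : Set G) : Set G) := by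
    rw [centralizer_closure]
    rintro _ (rfl | rfl)
    exacts [ut.symm.eq, ur.symm.eq]
  have nK : ∀ x, Commute x t → x ∈ normalizer (cj g (KK A) : Set G) := fun x hx =>
    mem_norm_cj h.ti ht o hx
  obtain ⟨R', hR', n', le'⟩ := Alt4.exists_syl_norm (K := cj g (KK A))
    (q2.to_sup_of_normal_left' (isPGroup_two_zpowers u2)
      (zpowers_le.2 (centralizer_le_normalizer _ uq)))
    (sup_le ((closure_le _).2 (by
      rintro _ (rfl | rfl)
      exacts [nK _ (Commute.refl _), nK _ rt.symm])) (zpowers_le.2 (nK _ ut)))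
  have tR : t ∈ R' := le' ⟨mem_sup_left (mq.2 (by simp)), ht⟩
  have cr : ∀ x ∈ R', x * r = r * x → x = 1 ∨ x = t := fun x hx c =>
    two (R' ⊓ centralizer {r}) hR'.pgroup.to_inf_left (fun y hy => ⟨hR'.le hy.1,
      mem_norm_of_comm h.ti rK ro (mem_centralizer_singleton_iff.1 hy.2)⟩)
      ⟨tR, mem_centralizer_singleton_iff.2 rt⟩ x ⟨hx, mem_centralizer_singleton_iff.2 c⟩
  have cq : ∀ x ∈ R', x ∈ closure ({t, r} : Set G) → x = 1 ∨ x = t := fun x hx hq => cr x hx (by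
    rcases mq.1 hq with rfl | rfl | rfl | rfl
    exacts [by simp, rt, rfl, (rt.mul_left (Commute.refl r)).eq])
  obtain ⟨y, hy, hy', yn⟩ := exists_mem_normalizer_of_lt (Q := closure ({t, r} : Set G))
    (hR'.pgroup.to_sup_of_normal_left' q2 (le_sup_left.trans n')) (lt_of_le_of_ne le_sup_right
      fun e => h.ncyc' hR' (cyc_of_le (x := t) fun v hv => by
        rcases cq v hv (e.ge (mem_sup_left hv)) with rfl | rfl
        exacts [one_mem _, mem_zpowers _]))
  obtain ⟨x, hx, q, hq, rfl⟩ :=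
    (LAE.mem_sup_iff_of_right_le_normalizer (le_sup_left.trans n')).1 hy
  replace yn := (mul_mem_cancel_right (le_normalizer hq)).1 yn
  replace hy' : x ∉ closure ({t, r} : Set G) := fun e => hy' (mul_mem e hq)
  have xt : x * t * x⁻¹ = t := (cq _ (mul_mem (mul_mem hx tR) (inv_mem hx))
    (conj_mem_of_mem_normalizer yn (mq.2 (by simp)))).resolve_left (by simpa using t1)
  have xr : x * r * x⁻¹ = t * r := by
    rcases mq.1 (conj_mem_of_mem_normalizer yn (mq.2 (.inr (.inr (.inl rfl))))) with e | e | e | e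
    · exact absurd (by simpa using e) (ne_one_of_orderOf ro)
    · rw [← xt, mul_left_inj, mul_right_inj] at e
      exact absurd (h.eq_one hg (e ▸ rK) ht t2) t1
    · rcases cr x hx (mul_inv_eq_iff_eq_mul.1 e) with rfl | rfl
      exacts [absurd (one_mem _) hy', absurd (mq.2 (by simp)) hy']
    · exact e
  have hx' := conj_mem_of_mem_normalizer (n' (mem_sup_right (mem_zpowers _))) hx
  have xr' : b * x * b⁻¹ * r = t * r * (b * x * b⁻¹) := by
    calc _ = b * (x * r * x⁻¹) * x * b⁻¹ := by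
          rw [mul_assoc _ _ r, ur.inv_left.eq]; group
      _ = _ := by rw [xr, (ut.mul_right ur).eq]; group
  rcases cr _ (mul_mem (inv_mem hx) hx') (by rw [mul_assoc, xr', ← xr]; group) with e | e
  · refine b1 (inn (c := x⁻¹ * a * x) rK bA ?_ (by
      rw [← pow_two, ur.symm.mul_pow, pow_two, pow_two, r2, u2, one_mul]))
    have e1 : x * b * x⁻¹ = b := by
      rw [inv_mul_eq_one, eq_mul_inv_iff_mul_eq] at e; rw [e, mul_inv_cancel_right]
    have e2 : r * b = x⁻¹ * a * x * r * (x⁻¹ * a * x)⁻¹ := by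
      calc r * b = x⁻¹ * (x * r * x⁻¹ * (x * b * x⁻¹)) * x := by group
        _ = x⁻¹ * (b * t * r) * x := by rw [xr, e1, ← (ut.mul_right ur).eq, mul_assoc b]
        _ = x⁻¹ * (a * (t * r) * a⁻¹) * x := by
          rw [eb, mul_assoc _ _ r, ← (comm_KA rK ha).inv_right.eq]; group
        _ = _ := by rw [← xr]; group
    rw [e2]
    exact conj_mem_cj.2 rK
  · refine b1 (inn (c := x * a * g) (one_mem _) bA ?_ (by rw [one_mul, u2]))
    have e2 : b = x * a * t * (x * a)⁻¹ := by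
      calc b = x * (x⁻¹ * (b * x * b⁻¹) * b) * x⁻¹ := by group
        _ = _ := by rw [e, ← ut.eq, eb]; group
    rw [one_mul, e2, cj_mul]
    exact conj_mem_cj.2 ht

/-- a non-cyclic 2-subgroup of the normaliser of `A` with a unique involution, which is inner -/
theorem exists_quat : ∃ (T : Subgroup G) (k a : G), k ∈ KK A ∧ a ∈ A ∧ orderOf a = 2 ∧
    T ≤ HH A ∧ ¬ IsCyclic T ∧ (∀ y ∈ T, y ∈ KK A → y = 1) ∧ (∀ y ∈ T, y * y = 1 → y = 1 ∨ y = k * a) ∧
    (∀ y ∈ T, Commute y a) ∧ ∀ U ≤ A, IsPGroup 2 U → (∀ u ∈ U, Commute u a) →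
      T ≤ normalizer (U : Set G) → U ≤ normalizer (T : Set G) := by
  obtain ⟨g, hg, t, ht, o, hi⟩ := h.exists_inner
  have t2 := mul_self_of_orderOf o
  have t1 := ne_one_of_orderOf o
  obtain ⟨T, hT, hle⟩ := exists_isSylowIn_ge (H := cj g (KK A) ⊓ HH A) (isPGroup_two_zpowers t2)
    (zpowers_le.2 ⟨ht, h.KA_le_H hi⟩)
  have m := hle (mem_zpowers t)
  have h1 := Alt4.eq_of_no_four hT.pgroup m o fun y hy o' c =>
    (h.uniq' ht o (hT.le hy).1 (mul_self_of_orderOf o') c).resolve_left (ne_one_of_orderOf o')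
  obtain ⟨R, R0, hR, -, hn, h0, ⟨e⟩, -, hc⟩ := Alt4.exists_R0_iso h.ti hg hT
    (fun e => t1 (mem_bot.1 (e ▸ m))) IsPGroup.of_bot bot_le (by rw [normalizer_eq_top]; exact le_top)
  obtain ⟨k, hk, a, ha, rfl⟩ := mem_KA.1 hi
  have k2 : k * k = 1 ∧ a * a = 1 := by
    rw [← pow_two, (comm_KA hk ha).mul_pow, pow_two, pow_two, mul_eq_one_iff_eq_inv] at t2
    have := h.disj _ (mul_mem hk hk) (t2 ▸ inv_mem (mul_mem ha ha))
    exact ⟨this, inv_eq_one.1 (t2 ▸ this)⟩
  have kR := QS.k_mem hR hk ha k2.1 (hn m)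
  have h4 : ∀ r ∈ R, r * k = k * r := fun r hr => by
    by_cases k1 : k = 1
    · rw [k1, mul_one, one_mul]
    obtain ⟨z, hz, z2, zc⟩ := exists_mem_center_of_normalized hR.pgroup le_rfl le_normalizer
      fun e => k1 (mem_bot.1 (e ▸ kR))
    rw [h.uniq k hk z (hR.le hz) (orderOf_eq_two k1 k2.1) z2 (zc k kR)]
    exact zc r hr
  obtain rfl : R0 = R := le_antisymm h0 fun r hr =>
    hc _ m o r hr ((QS.comm_iff (hR.le hr) ha).2 (h4 r hr))
  have a1 : a ≠ 1 := fun e => t1 (h.eq_one hg (by rw [e, mul_one]; exact hk) ht t2)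
  refine ⟨T, k, a, hk, ha, orderOf_eq_two a1 k2.2, fun y hy => (hT.le hy).2,
    fun c => h.ncyc _ hR (e.isCyclic.2 c), fun y hy yK => ?_,
    fun y hy y2 => or_iff_not_imp_left.2 fun y1 => h1 y hy (orderOf_eq_two y1 y2), fun y hy => ?_,
    fun U UA U2 Ua TU u hu => mem_normalizer_of_forall fun y hy => ?_⟩
  · obtain ⟨j, hj⟩ := isPGroup_iff_mem.1 hT.pgroup y hy
    exact eq_one_of_two h.ti hg yK (hT.le hy).1 hj
  · have e1 := h1 _ (mul_mem (mul_mem hy m) (inv_mem hy)) ((orderOf_conj_eq _ _).trans o)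
    have e2 : k⁻¹ * (y * k * y⁻¹) = a * (y * a * y⁻¹)⁻¹ := by
      rw [inv_mul_eq_iff_eq_mul, ← mul_assoc, ← e1]; group
    have := h.disj _ (mul_mem (inv_mem hk) (conj_mem_of_mem_normalizer (hT.le hy).2 hk))
      (e2 ▸ mul_mem ha (inv_mem (conj_mem_of_mem_normalizer (h.norm ▸ (hT.le hy).2) ha)))
    rw [e2, mul_inv_eq_one, eq_mul_inv_iff_mul_eq] at this
    exact this.symm
  · have uN : u ∈ normalizer (cj g (KK A) : Set G) :=
      mem_norm_cj h.ti ht o ((comm_KA hk (UA hu)).symm.mul_right (Ua u hu))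
    have e1 := hT.eq_of_le (Q := (U ⊔ T) ⊓ cj g (KK A)) (U2.to_sup_of_normal_left' hT.pgroup TU).to_inf_left
      (le_inf le_sup_right (hT.le.trans inf_le_left))
      (fun x hx => ⟨hx.2, sup_le (UA.trans h.A_le_H) (hT.le.trans inf_le_right) hx.1⟩)
    exact e1.le (mem_inf.2 ⟨mul_mem (mul_mem (mem_sup_left hu) (mem_sup_right hy))
      (inv_mem (mem_sup_left hu)), conj_mem_of_mem_normalizer uN (hT.le hy).1⟩)

end Q1

end CfsgLib.StdQ
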